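import Cfsg.Agent.Omega.Abl.Main

/-!
# Theorem ABL: the end
-/

set_option autoImplicit false

namespace Cfsg.Agent.Omega.Abl

open Subgroup Cfsg.Agent.Omega.BTwo

variable {G : Type*} [Group G] {ι : Type*}

theorem cent_conj_self {V : Subgroup G} {c d : G} (hc : c ∈ centralizer (V : Set G))
    (hd : d ∈ centralizer (V : Set G)) : c * d * c⁻¹ ∈ centralizer (V : Set G) :=
  (centralizer (V : Set G)).mul_mem ((centralizer (V : Set G)).mul_mem hc hd)
    ((centralizer (V : Set G)).inv_mem hc)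

section tor

variable {V : Subgroup G} {R A B : ι → Subgroup G} (h : TwoAb V R A B) {i j : ι} {t : G}
  (ht : Tor V R B i j t)
include h ht

/-- `[K, t] ≤ U` -/
theorem Tor.K_comm_t {k : G} (hk : k ∈ centralizer (UU V B : Set G)) : k * t * k⁻¹ * t⁻¹ ∈ UU V B := by
  have : Nonempty ι := ⟨i⟩
  have key : t ∈ normalizer (V : Set G) ∧ k * t * k⁻¹ * t⁻¹ ∈ UU V B := by
    refine Tor.induct h ht (P := fun g => g ∈ normalizer (V : Set G) ∧ k * g * k⁻¹ * g⁻¹ ∈ UU V B)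
      ⟨one_mem _, by simp⟩ ?_ ?_
    · rintro x y ⟨hx, hx'⟩ ⟨hy, hy'⟩
      refine ⟨mul_mem hx hy, ?_⟩
      rw [comm_mul_right]
      exact mul_mem hx' (h.U_conj hx hy')
    · exact fun l b hb => ⟨h.B_N l hb, B0_le_U l (h.K_comm hk hb)⟩
  exact key.2

/-- `[A u, B i] ≤ U` for the index `i` of the torus. -/
theorem Tor.comm_AB_aux [Finite G] {u : ι} {a b : G} (ha : a ∈ A u) (hb : b ∈ B i) :
    a * b * a⁻¹ * b⁻¹ ∈ UU V B := by
  have : Nonempty ι := ⟨i⟩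
  -- every `b ∈ B i` is `[t, b'] b0`
  obtain ⟨b', hb', b0, hb0, rfl⟩ : ∃ b' ∈ B i, ∃ b0 ∈ B0 V B i, b = (t * b' * t⁻¹ * b'⁻¹) * b0 := by
    have hcj : ∀ x ∈ B i, t * x * t⁻¹ ∈ B i := by
      intro x hx
      have := conj_mem_cj (g := t) hx
      rwa [h.cjB t i i ht.ti] at this
    let C := centralizer (V : Set G)
    let N : Subgroup (B i) := C.subgroupOf (B i)
    have hNn : N.Normal := by
      constructor
      rintro ⟨x, hx⟩ hxN ⟨g, hg⟩
      rw [mem_subgroupOf] at hxN ⊢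
      exact cent_conj (h.B_N i hg) hxN
    let f : B i →* (B i ⧸ N) :=
      { toFun := fun x => QuotientGroup.mk' N ⟨t * x * t⁻¹ * (x : G)⁻¹, mul_mem (hcj x x.2) (inv_mem x.2)⟩
        map_one' := by
          rw [QuotientGroup.mk'_apply, QuotientGroup.eq_one_iff, mem_subgroupOf]
          simp
        map_mul' := by
          intro x y
          rw [← map_mul]
          congr 1
          apply Subtype.ext
          change t * (x * y : G) * t⁻¹ * ((x : G) * y)⁻¹ = (t * x * t⁻¹ * (x : G)⁻¹) * (t * y * t⁻¹ * (y : G)⁻¹)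
          rw [comm_mul_right]
          congr 1
          have h1 : t * (y : G) * t⁻¹ * (y : G)⁻¹ ∈ B i := mul_mem (hcj y y.2) (inv_mem y.2)
          rw [h.B_comm i x x.2 _ h1, mul_inv_cancel_right] }
    have hker : f.ker ≤ N := by
      intro x hx
      rw [MonoidHom.mem_ker] at hx
      change QuotientGroup.mk' N _ = 1 at hx
      rw [QuotientGroup.mk'_apply, QuotientGroup.eq_one_iff, mem_subgroupOf] at hx
      rw [mem_subgroupOf]
      exact ht.free x x.2 hx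
    have hran : f.range = ⊤ := by
      apply eq_top_of_card_eq
      apply le_antisymm (card_le_card_group _)
      have h1 : Nat.card f.range = f.ker.index := (index_ker f).symm
      have h2 : Nat.card (B i ⧸ N) = N.index := rfl
      rw [h1, h2]
      exact Nat.le_of_dvd (Nat.pos_of_ne_zero index_ne_zero_of_finite) (index_dvd_of_le hker)
    have : QuotientGroup.mk' N ⟨b, hb⟩ ∈ f.range := by rw [hran]; exact mem_top _
    obtain ⟨x, hx⟩ := this
    change QuotientGroup.mk' N _ = _ at hx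
    rw [QuotientGroup.mk'_apply, QuotientGroup.mk'_apply, QuotientGroup.eq, mem_subgroupOf] at hx
    refine ⟨x, x.2, _, mem_B0.2 ⟨?_, hx⟩, ?_⟩
    · exact (B i).mul_mem ((B i).inv_mem (mul_mem (hcj x x.2) (inv_mem x.2))) hb
    · simp only [InvMemClass.coe_inv, Subgroup.coe_mul]
      group
  have hb0U := B0_le_U i hb0
  have hN : t ∈ normalizer (V : Set G) := Tor.norm h ht
  have hcjb : t * b' * t⁻¹ ∈ B i := by
    have := conj_mem_cj (g := t) hb'
    rwa [h.cjB t i i ht.ti] at this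
  have hBi : t * b' * t⁻¹ * b'⁻¹ ∈ B i := mul_mem hcjb (inv_mem hb')
  have hBN := h.B_N i hBi
  -- reduce to `[t, b']`
  suffices key : a * (t * b' * t⁻¹ * b'⁻¹) * a⁻¹ * (t * b' * t⁻¹ * b'⁻¹)⁻¹ ∈ UU V B by
    rw [comm_mul_right]
    exact mul_mem key (h.U_conj hBN (h.V_le_U (Tor.alpha_mem h ht ha hb0U)))
  -- work in `N(V) / U`
  let M := (normalizer (V : Set G) : Subgroup G)
  let W : Subgroup M := (UU V B).subgroupOf M
  have hW : W.Normal := by
    constructor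
    rintro ⟨x, hx⟩ hxW ⟨g, hg⟩
    rw [mem_subgroupOf] at hxW ⊢
    exact h.U_conj hg hxW
  have haN : a ∈ M := by
    have h1 := h.A_cent u ha
    exact mem_normalizer_iff.2 fun v => by
      constructor
      · intro hv
        rw [← (mem_centralizer_iff.1 h1) v hv, mul_inv_cancel_right]; exact hv
      · intro hv
        have h2 := (mem_centralizer_iff.1 h1) _ hv
        have h3 : v = a * v * a⁻¹ := by
          have : a * v = a * (a * v * a⁻¹) := by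
            calc a * v = a * v * a⁻¹ * a := by group
              _ = _ := h2
          exact mul_left_cancel this
        rw [h3]; exact hv
  have hbN : b' ∈ M := h.B_N i hb'
  set κ := a * t * a⁻¹ * t⁻¹ with hκ
  set l := a * b' * a⁻¹ * b'⁻¹ with hl
  have hκK : κ ∈ centralizer (UU V B : Set G) := Tor.comm_t_cent h ht ha
  have hlK : l ∈ centralizer (UU V B : Set G) := Tor.comm_B_cent h ht ha hb'
  have hKM : ∀ k ∈ centralizer (UU V B : Set G), k ∈ M := by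
    intro k hk
    have h1 := h.K_cent hk
    exact mem_normalizer_iff.2 fun v => by
      constructor
      · intro hv
        rw [← (mem_centralizer_iff.1 h1) v hv, mul_inv_cancel_right]; exact hv
      · intro hv
        have h2 := (mem_centralizer_iff.1 h1) _ hv
        have h3 : v = k * v * k⁻¹ := by
          have : k * v = k * (k * v * k⁻¹) := by
            calc k * v = k * v * k⁻¹ * k := by group
              _ = _ := h2
          exact mul_left_cancel this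
        rw [h3]; exact hv
  -- commuting modulo `U`
  have hq : ∀ x y : M, (x : G) * y * (x : G)⁻¹ * (y : G)⁻¹ ∈ UU V B →
      QuotientGroup.mk' W x * QuotientGroup.mk' W y = QuotientGroup.mk' W y * QuotientGroup.mk' W x := by
    intro x y hxy
    rw [← map_mul, ← map_mul, ← div_eq_one, ← map_div, QuotientGroup.mk'_apply, QuotientGroup.eq_one_iff,
      mem_subgroupOf]
    have e : ((x * y / (y * x) : M) : G) = (x : G) * y * (x : G)⁻¹ * (y : G)⁻¹ := by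
      rw [div_eq_mul_inv]
      simp only [Subgroup.coe_mul, InvMemClass.coe_inv]
      group
    rw [e]; exact hxy
  have ekey := comm_aux (M := M ⧸ W) (a := QuotientGroup.mk' W ⟨a, haN⟩) (t := QuotientGroup.mk' W ⟨t, hN⟩)
    (b := QuotientGroup.mk' W ⟨b', hbN⟩) (k := QuotientGroup.mk' W ⟨κ, hKM κ hκK⟩)
    (l := QuotientGroup.mk' W ⟨l, hKM l hlK⟩)
    (by rw [← map_mul, ← map_mul]; congr 1; exact Subtype.ext (h.K_mul_comm hκK hlK))
    (hq _ _ (Tor.K_comm_t h ht hκK))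
    (hq _ _ (B0_le_U i (h.K_comm hκK hb')))
    (hq _ _ (Tor.K_comm_t h ht hlK))
    (hq _ _ (B0_le_U i (h.K_comm hlK hb')))
    (by
      rw [← map_inv, ← map_mul, ← map_mul, ← map_mul]; congr 1
      apply Subtype.ext
      change a * t * a⁻¹ = κ * t
      rw [hκ]; group)
    (by
      rw [← map_inv, ← map_mul, ← map_mul, ← map_mul]; congr 1
      apply Subtype.ext
      change a * b' * a⁻¹ = l * b'
      rw [hl]; group)
  rw [← div_eq_one] at ekey
  simp only [← map_inv, ← map_mul, ← map_div] at ekey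
  rw [QuotientGroup.mk'_apply, QuotientGroup.eq_one_iff, mem_subgroupOf, div_eq_mul_inv] at ekey
  simpa only [Subgroup.coe_mul, InvMemClass.coe_inv] using ekey

/-- `[A u, B k] ≤ U` -/
theorem Tor.comm_AB [Finite G] {u k : ι} {a b : G} (ha : a ∈ A u) (hb : b ∈ B k) :
    a * b * a⁻¹ * b⁻¹ ∈ UU V B := by
  obtain ⟨x, hx, e⟩ := h.exists_conj_index i k
  have h1 : x⁻¹ * b * x ∈ B i := by
    rw [← h.cjB x i k e, mem_cj] at hb
    exact hb
  obtain ⟨u', hu'⟩ := h.perm x⁻¹ (inv_mem hx) u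
  have h2 : x⁻¹ * a * x ∈ A u' := by
    rw [← h.cjA x⁻¹ u u' hu']
    have := conj_mem_cj (g := x⁻¹) ha
    rwa [inv_inv] at this
  have h3 := h.U_conj hx (Tor.comm_AB_aux h ht h2 h1)
  have e2 : x * (x⁻¹ * a * x * (x⁻¹ * b * x) * (x⁻¹ * a * x)⁻¹ * (x⁻¹ * b * x)⁻¹) * x⁻¹ =
      a * b * a⁻¹ * b⁻¹ := by group
  rwa [e2] at h3

/-- `[t, A u] ≤ U` -/
theorem Tor.comm_tA [Finite G] {u : ι} {a : G} (ha : a ∈ A u) : t * a * t⁻¹ * a⁻¹ ∈ UU V B := by
  have key : t ∈ normalizer (V : Set G) ∧ a * t * a⁻¹ * t⁻¹ ∈ UU V B := by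
    refine Tor.induct h ht (P := fun g => g ∈ normalizer (V : Set G) ∧ a * g * a⁻¹ * g⁻¹ ∈ UU V B)
      ⟨one_mem _, by simp⟩ ?_ ?_
    · rintro x y ⟨hx, hx'⟩ ⟨hy, hy'⟩
      refine ⟨mul_mem hx hy, ?_⟩
      rw [comm_mul_right]
      exact mul_mem hx' (h.U_conj hx hy')
    · exact fun l b hb => ⟨h.B_N l hb, Tor.comm_AB h ht ha hb⟩
  have := inv_mem key.2
  rwa [comm_inv] at this

/-- `A l ≤ U A k` -/
theorem Tor.A_le [Finite G] {k l : ι} {a' : G} (ha' : a' ∈ A l) :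
    ∃ a ∈ A k, ∃ u ∈ UU V B, a' = u * a := by
  obtain ⟨m, hmk, hml⟩ := h.third k l
  obtain ⟨b, hb, e⟩ := h.trans m k l hmk.symm hml.symm
  have h1 : b⁻¹ * a' * b ∈ A k := by
    rw [← h.cjA b k l e, mem_cj] at ha'
    exact ha'
  have h2 := inv_mem (Tor.comm_AB h ht h1 hb)
  rw [comm_inv] at h2
  refine ⟨_, h1, _, h2, ?_⟩
  group

/-- decomposition of `A k` for a `t`-invariant index `k`. -/
theorem Tor.A_decomp [Finite G] {k : ι} (hk : cj t (R k) = R k) {a : G} (ha : a ∈ A k) :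
    ∃ a₀ ∈ A k, ∃ d ∈ A k ⊓ UU V B, t * a₀ = a₀ * t ∧ a = a₀ * d := by
  have : Nonempty ι := ⟨i⟩
  have hcj : ∀ x ∈ A k, t * x * t⁻¹ ∈ A k := by
    intro x hx
    have := conj_mem_cj (g := t) hx
    rwa [h.cjA t k k hk] at this
  have hN := Tor.norm h ht
  have hτ : ∀ x ∈ A k, t * x * t⁻¹ * x⁻¹ ∈ A k ⊓ UU V B := fun x hx =>
    mem_inf.2 ⟨mul_mem (hcj x hx) (inv_mem hx), Tor.comm_tA h ht hx⟩
  obtain ⟨d, hd, e⟩ := surj_of_inj (D := A k ⊓ UU V B) (E := A k ⊓ UU V B) (fun x => t * x * t⁻¹ * x⁻¹)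
    (fun x hx => hτ x hx.1) (fun x hx y hy e => Tor.inj h ht hx.2 hy.2 e) le_rfl (hτ a ha)
  have e' : t * d * t⁻¹ * d⁻¹ = t * a * t⁻¹ * a⁻¹ := e
  refine ⟨a * d⁻¹, mul_mem ha (inv_mem hd.1), d, hd, ?_, by group⟩
  set τ := t * a * t⁻¹ * a⁻¹ with hτ'
  have hτA : τ ∈ A k := (hτ a ha).1
  have e1 : t * a * t⁻¹ = τ * a := by rw [hτ']; group
  have e2 : t * d * t⁻¹ = τ * d := by rw [← e']; group
  have e3 : t * (a * d⁻¹) * t⁻¹ = a * d⁻¹ := by
    calc t * (a * d⁻¹) * t⁻¹ = (t * a * t⁻¹) * (t * d * t⁻¹)⁻¹ := by group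
      _ = τ * a * (τ * d)⁻¹ := by rw [e1, e2]
      _ = (τ * (a * d⁻¹)) * τ⁻¹ := by group
      _ = a * d⁻¹ := by rw [h.A_comm k τ hτA _ (mul_mem ha (inv_mem hd.1)), mul_inv_cancel_right]
  calc t * (a * d⁻¹) = (t * (a * d⁻¹) * t⁻¹) * t := by group
    _ = _ := by rw [e3]

/-- `A i = I F i` -/
theorem Tor.A_eq_aux [Finite G] {a : G} (ha : a ∈ A i) : ∃ y ∈ II A, ∃ f ∈ A i ⊓ B i, a = y * f := by
  have : Nonempty ι := ⟨i⟩
  have hji : j ≠ i := Ne.symm ht.ij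
  obtain ⟨a₀, ha₀, d, hd, hc, rfl⟩ := Tor.A_decomp h ht ht.ti ha
  obtain ⟨a', ha', u, hu, e⟩ := Tor.A_le h ht (k := j) ha₀
  obtain ⟨a₁, ha₁, d₁, hd₁, hc₁, rfl⟩ := Tor.A_decomp h ht ht.tj ha'
  -- `a₀ = a₁`
  have e1 : a₀ * a₁⁻¹ = u * d₁ := by
    rw [e, h.A_comm j a₁ ha₁ d₁ hd₁.1]; group
  have h1 : a₀ * a₁⁻¹ ∈ UU V B := by rw [e1]; exact mul_mem hu hd₁.2
  have h2 : t * (a₀ * a₁⁻¹) = a₀ * a₁⁻¹ * t := by
    have hc₁' : t * a₁⁻¹ = a₁⁻¹ * t := by
      calc t * a₁⁻¹ = a₁⁻¹ * (a₁ * t) * a₁⁻¹ := by group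
        _ = a₁⁻¹ * (t * a₁) * a₁⁻¹ := by rw [hc₁]
        _ = a₁⁻¹ * t := by group
    calc t * (a₀ * a₁⁻¹) = (t * a₀) * a₁⁻¹ := by group
      _ = a₀ * (t * a₁⁻¹) := by rw [hc]; group
      _ = a₀ * a₁⁻¹ * t := by rw [hc₁']; group
  have h3 := mul_inv_eq_one.1 (Tor.eq_one h ht h1 h2)
  have hI : a₀ ∈ II A := h.mem_I_of hji ha₀ (by rw [h3]; exact ha₁)
  obtain ⟨v, hv, f, hf, rfl⟩ := h.A_inf_U hji hd.2 hd.1
  have hvV := h.R_le j hv
  refine ⟨a₀ * v, mul_mem hI (h.V_le_I hvV), f, hf, ?_⟩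
  have := h.A_comm i v (h.V_A i hvV) f hf.1
  calc a₀ * (f * v) = a₀ * (v * f) := by rw [this]
    _ = a₀ * v * f := by group

theorem Tor.A_eq [Finite G] {k : ι} {a : G} (ha : a ∈ A k) : ∃ y ∈ II A, ∃ f ∈ A k ⊓ B k, a = y * f := by
  obtain ⟨x, hx, e⟩ := h.exists_conj_index i k
  have h1 : x⁻¹ * a * x ∈ A i := by
    rw [← h.cjA x i k e, mem_cj] at ha
    exact ha
  obtain ⟨y, hy, f, hf, e1⟩ := Tor.A_eq_aux h ht h1
  refine ⟨x * y * x⁻¹, h.I_conj hx hy, x * f * x⁻¹, mem_inf.2 ⟨?_, ?_⟩, ?_⟩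
  · rw [← h.cjA x i k e]; exact conj_mem_cj hf.1
  · rw [← h.cjB x i k e]; exact conj_mem_cj hf.2
  · calc a = x * (x⁻¹ * a * x) * x⁻¹ := by group
      _ = _ := by rw [e1]; group

end tor

/-! ### The groups `G i` -/

section fin

variable {V : Subgroup G} {R A B : ι → Subgroup G}

/-- `G i = C_{B i}(A i)` -/
def GG (A B : ι → Subgroup G) (i : ι) : Subgroup G := B i ⊓ centralizer (A i : Set G)

theorem mem_GG {k : ι} {x : G} : x ∈ GG A B k ↔ x ∈ B k ∧ x ∈ centralizer (A k : Set G) := mem_inf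

variable (h : TwoAb V R A B)
include h

theorem TwoAb.GG_le (k : ι) : GG A B k ≤ B0 V B k := by
  intro x hx
  rw [mem_GG] at hx
  exact mem_B0.2 ⟨hx.1, centralizer_le (fun _ hv => h.V_A k hv) hx.2⟩

theorem TwoAb.cj_GG {g : G} {k l : ι} (e : cj g (R k) = R l) : cj g (GG A B k) = GG A B l := by
  rw [GG, GG, cj_inf, h.cjB g k l e, ← centralizer_cj, h.cjA g k l e]

theorem TwoAb.card_GG (k l : ι) : Nat.card (GG A B k) = Nat.card (GG A B l) := by
  obtain ⟨g, -, e⟩ := h.exists_conj_index k l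
  rw [← h.cj_GG e, card_cj]

/-- `C(A i B i) ≤ K` -/
theorem TwoAb.cent_AB {k : ι} {c : G} (hA : ∀ a ∈ A k, c * a = a * c) (hB : ∀ b ∈ B k, c * b = b * c) :
    c ∈ centralizer (UU V B : Set G) := by
  have hcV : c ∈ centralizer (V : Set G) := by
    rw [mem_centralizer_iff]
    exact fun v hv => (hA v (h.V_A k hv)).symm
  obtain ⟨l, hl⟩ := h.exists_ne_index k
  obtain ⟨b, hb, hbV⟩ := h.exists_move k
  rw [mem_centralizer_iff]
  intro u hu
  obtain ⟨p, hp, d, hd, rfl⟩ := h.mem_U hl hu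
  have h1 : c * d * c⁻¹ ∈ B0 V B l := mem_B0.2 ⟨h.cent_normB hcV l hd.1, cent_conj_self hcV hd.2⟩
  have h2 : b * (c * d * c⁻¹) * b⁻¹ * (c * d * c⁻¹)⁻¹ = b * d * b⁻¹ * d⁻¹ := by
    have h3 := h.comm_mem hb hd
    have h4 := hB b hb
    have h5 := hB _ h3.1
    have h6 : c * b * c⁻¹ = b := by rw [h4, mul_inv_cancel_right]
    calc b * (c * d * c⁻¹) * b⁻¹ * (c * d * c⁻¹)⁻¹
        = (c * b * c⁻¹) * (c * d * c⁻¹) * (c * b * c⁻¹)⁻¹ * (c * d * c⁻¹)⁻¹ := by rw [h6]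
      _ = c * (b * d * b⁻¹ * d⁻¹) * c⁻¹ := by group
      _ = _ := by rw [h5, mul_inv_cancel_right]
  have h3 := h.comm_inj hl hb hbV h1 hd h2
  have h4 : c * d = d * c := by
    calc c * d = (c * d * c⁻¹) * c := by group
      _ = _ := by rw [h3]
  have h5 := hB p hp.1
  calc p * d * c = p * (d * c) := by group
    _ = (p * c) * d := by rw [← h4]; group
    _ = c * (p * d) := by rw [← h5]; group

end fin

section main

variable {V : Subgroup G} {R A B : ι → Subgroup G} (h : TwoAb V R A B) {i j : ι} {t : G}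
  (ht : Tor V R B i j t)
include h ht

/-- `[G l, B k] ≤ G k` -/
theorem Tor.comm_GG [Finite G] {k l : ι} {f b : G} (hf : f ∈ GG A B l) (hb : b ∈ B k) :
    b * f * b⁻¹ * f⁻¹ ∈ GG A B k := by
  have : Nonempty ι := ⟨i⟩
  have hf0 := h.GG_le l hf
  have h1 := h.comm_mem hb hf0
  refine mem_GG.2 ⟨h1.1, ?_⟩
  rw [mem_centralizer_iff]
  intro a ha
  obtain ⟨y, hy, x, hx, rfl⟩ := Tor.A_eq h ht ha
  have hxU : x ∈ UU V B := B0_le_U k ⟨hx.2, h.A_cent k hx.1⟩
  have h2 := h.U_comm hxU (B0_le_U k h1)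
  have hfI : ∀ z ∈ II A, z * f = f * z := fun z hz => (mem_centralizer_iff.1 (mem_GG.1 hf).2) z (mem_I.1 hz l)
  have hy' : b⁻¹ * y * b ∈ II A := by
    have := h.I_conj (inv_mem (h.B_N k hb)) hy
    rwa [inv_inv] at this
  have h3 := hfI _ hy'
  have h4 := hfI y hy
  have h5 : y * (b * f * b⁻¹) = b * f * b⁻¹ * y := by
    calc y * (b * f * b⁻¹) = b * (b⁻¹ * y * b * f) * b⁻¹ := by group
      _ = b * f * b⁻¹ * y := by rw [h3]; group
  have h6 : y * f⁻¹ = f⁻¹ * y := by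
    calc y * f⁻¹ = f⁻¹ * (f * y) * f⁻¹ := by group
      _ = f⁻¹ * y := by rw [← h4]; group
  calc y * x * (b * f * b⁻¹ * f⁻¹) = y * (x * (b * f * b⁻¹ * f⁻¹)) := by group
    _ = (y * (b * f * b⁻¹)) * f⁻¹ * x := by rw [h2]; group
    _ = (b * f * b⁻¹) * (y * f⁻¹) * x := by rw [h5]; group
    _ = b * f * b⁻¹ * f⁻¹ * (y * x) := by rw [h6]; group

/-- `G l` centralises `A k`. -/
theorem Tor.GG_cent [Finite G] {k l : ι} {f : G} (hf : f ∈ GG A B l) : ∀ a ∈ A k, f * a = a * f := by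
  have : Nonempty ι := ⟨i⟩
  intro a ha
  obtain ⟨y, hy, x, hx, rfl⟩ := Tor.A_eq h ht ha
  have hxU : x ∈ UU V B := B0_le_U k ⟨hx.2, h.A_cent k hx.1⟩
  have h1 := h.U_comm (B0_le_U l (h.GG_le l hf)) hxU
  have h2 := (mem_centralizer_iff.1 (mem_GG.1 hf).2) y (mem_I.1 hy l)
  calc f * (y * x) = (f * y) * x := by group
    _ = y * (f * x) := by rw [← h2]; group
    _ = y * x * f := by rw [h1]; group

omit h ht in
/-- the group `N₀` -/
def NN (R A B : ι → Subgroup G) (k : ι) : Subgroup G where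
  carrier := {g | g ∈ normalizer (R k : Set G) ∧ (∀ a ∈ A k, g * a = a * g) ∧
    (∀ x ∈ GG A B k, g * x = x * g) ∧ ∀ b ∈ B k, g * b * g⁻¹ * b⁻¹ ∈ GG A B k}
  one_mem' := ⟨one_mem _, fun a _ => by simp, fun a _ => by simp, fun b _ => by simp⟩
  mul_mem' := by
    rintro x y ⟨h1, h2, h3, h4⟩ ⟨h1', h2', h3', h4'⟩
    refine ⟨mul_mem h1 h1', fun a ha => ?_, fun a ha => ?_, fun b hb => ?_⟩
    · rw [mul_assoc, h2' a ha, ← mul_assoc, h2 a ha, mul_assoc]
    · rw [mul_assoc, h3' a ha, ← mul_assoc, h3 a ha, mul_assoc]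
    · have e : x * y * b * (x * y)⁻¹ * b⁻¹ = (x * (y * b * y⁻¹ * b⁻¹) * x⁻¹) * (x * b * x⁻¹ * b⁻¹) := by group
      rw [e, h3 _ (h4' b hb), mul_inv_cancel_right]
      exact mul_mem (h4' b hb) (h4 b hb)
  inv_mem' := by
    rintro x ⟨h1, h2, h3, h4⟩
    have hi : ∀ a : G, x * a = a * x → x⁻¹ * a = a * x⁻¹ := by
      intro a ha
      calc x⁻¹ * a = x⁻¹ * (a * x) * x⁻¹ := by group
        _ = a * x⁻¹ := by rw [← ha]; group
    refine ⟨inv_mem h1, fun a ha => hi a (h2 a ha), fun a ha => hi a (h3 a ha), fun b hb => ?_⟩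
    have e : x⁻¹ * b * x⁻¹⁻¹ * b⁻¹ = x⁻¹ * (x * b * x⁻¹ * b⁻¹)⁻¹ * x := by group
    rw [e, hi _ (h3 _ (inv_mem (h4 b hb)))]
    have e2 : (x * b * x⁻¹ * b⁻¹)⁻¹ * x⁻¹ * x = (x * b * x⁻¹ * b⁻¹)⁻¹ := by group
    rw [e2]
    exact inv_mem (h4 b hb)

omit ht in
theorem TwoAb.NN_conj {k : ι} {g : G} (hg : g ∈ normalizer (R k : Set G)) {x : G} (hx : x ∈ NN R A B k) :
    g * x * g⁻¹ ∈ NN R A B k := by
  obtain ⟨h1, h2, h3, h4⟩ := hx
  have e : cj g (R k) = R k := cj_eq_self_iff.2 hg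
  have hA := h.cjA g k k e
  have hB := h.cjB g k k e
  have hG := h.cj_GG e
  have hc : ∀ a : G, x * (g⁻¹ * a * g) = (g⁻¹ * a * g) * x → g * x * g⁻¹ * a = a * (g * x * g⁻¹) := by
    intro a ha
    calc g * x * g⁻¹ * a = g * (x * (g⁻¹ * a * g)) * g⁻¹ := by group
      _ = _ := by rw [ha]; group
  refine ⟨mul_mem (mul_mem hg h1) (inv_mem hg), fun a ha => ?_, fun a ha => ?_, fun b hb => ?_⟩
  · rw [← hA, mem_cj] at ha
    exact hc a (h2 _ ha)
  · rw [← hG, mem_cj] at ha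
    exact hc a (h3 _ ha)
  · rw [← hB, mem_cj] at hb
    rw [← hG, mem_cj]
    have e2 : g⁻¹ * (g * x * g⁻¹ * b * (g * x * g⁻¹)⁻¹ * b⁻¹) * g =
      x * (g⁻¹ * b * g) * x⁻¹ * (g⁻¹ * b * g)⁻¹ := by group
    rw [e2]
    exact h4 _ hb

omit ht in
theorem TwoAb.NN_le [Finite G] (k : ι) : NN R A B k ≤ O2 (normalizer (R k : Set G)) := by
  have : Nonempty ι := ⟨k⟩
  refine le_O2_of_normal (fun x hx => hx.1) ?_ (fun g hg x hx => h.NN_conj hg hx)
  rintro ⟨g, h1, h2, h3, h4⟩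
  refine ⟨2, ?_⟩
  have hK : g * g ∈ centralizer (UU V B : Set G) := by
    refine h.cent_AB (k := k) (fun a ha => ?_) (fun b hb => ?_)
    · rw [mul_assoc, h2 a ha, ← mul_assoc, h2 a ha, mul_assoc]
    · have h5 := h4 b hb
      set c := g * b * g⁻¹ * b⁻¹ with hc
      have e1 : g * b * g⁻¹ = c * b := by rw [hc]; group
      have e2 := h3 c h5
      have e3 := h.B_sq k c (mem_GG.1 h5).1
      calc g * g * b = g * (g * b * g⁻¹) * g := by group
        _ = (g * c) * b * g := by rw [e1]; group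
        _ = c * (g * b * g⁻¹) * (g * g) := by rw [e2]; group
        _ = (c * c) * b * (g * g) := by rw [e1]; group
        _ = b * (g * g) := by rw [e3, one_mul]
  have h5 := h.K_sq hK
  apply Subtype.ext
  change g ^ (2 ^ 2) = 1
  rw [show (2 : ℕ) ^ 2 = 2 * 2 from rfl, pow_mul, pow_two, pow_two]
  exact h5

/-- `G l ≤ N₀ k` -/
theorem Tor.GG_le_NN [Finite G] {k l : ι} : GG A B l ≤ NN R A B k := by
  have : Nonempty ι := ⟨i⟩
  intro f hf
  have hfV : f ∈ centralizer (V : Set G) := (h.GG_le l hf).2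
  refine ⟨cj_eq_self_iff.1 (h.cent_norm hfV k), Tor.GG_cent h ht hf, fun x hx => ?_, fun b hb => ?_⟩
  · exact h.U_comm (B0_le_U l (h.GG_le l hf)) (B0_le_U k (h.GG_le k hx))
  · have := inv_mem (Tor.comm_GG h ht hf hb)
    rwa [comm_inv] at this

/-- `G k ≤ R k` -/
theorem Tor.GG_le_R [Finite G] (k : ι) : GG A B k ≤ R k := by
  intro x hx
  obtain ⟨l, hl⟩ := h.exists_ne_index k
  obtain ⟨b, hb, hbV⟩ := h.exists_move k
  obtain ⟨f, hf, rfl⟩ := surj_of_inj (D := GG A B l) (E := GG A B k) (fun f => b * f * b⁻¹ * f⁻¹)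
    (fun f hf => Tor.comm_GG h ht hf hb)
    (fun x hx y hy e => h.comm_inj hl hb hbV (h.GG_le l hx) (h.GG_le l hy) e) (h.card_GG k l).le hx
  have h1 := inv_mem (h.Q k b hb f (h.NN_le k (Tor.GG_le_NN h ht hf)))
  rw [comm_inv] at h1
  exact h1

/-- **Theorem ABL**: all the `A k` are equal. -/
theorem Tor.A_const [Finite G] (k l : ι) : A k = A l := by
  have key : ∀ k, A k = II A := by
    intro k
    refine le_antisymm (fun a ha => ?_) (fun a ha => mem_I.1 ha k)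
    obtain ⟨y, hy, f, hf, rfl⟩ := Tor.A_eq h ht ha
    refine mul_mem hy (h.V_le_I (h.R_le k (Tor.GG_le_R h ht k (mem_GG.2 ⟨hf.2, ?_⟩))))
    rw [mem_centralizer_iff]
    exact fun a ha => h.A_comm k a ha f hf.1
  rw [key k, key l]

/-- **Theorem ABL**: `N(V)` normalises `A k`. -/
theorem Tor.normalizer_le [Finite G] (k : ι) : normalizer (V : Set G) ≤ normalizer (A k : Set G) := by
  intro g hg
  obtain ⟨l, hl⟩ := h.perm g hg k
  rw [← cj_eq_self_iff, h.cjA g k l hl, Tor.A_const h ht l k]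

end main

end Cfsg.Agent.Omega.Abl

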