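import Cfsg.Agent.Omega.BTwo.Conj

/-!
# Theorem ABL (bb OMEGA #12706)

`V` with its lines `R i`; for every line two abelian groups `A i ≥ V` and `B i ≥ R i` (`A i = ⟨V^h : h ∈ N(R i)⟩`,
`B i = ⟨V'^h : h ∈ N(R i)⟩` for a mutual pair `V, V'` of natural modules), and a torus element `t`.
Conclusion: all the `A i` are equal, so `N(V)` normalises `A i`.  K-free and field-free.
-/

set_option autoImplicit false

namespace Cfsg.Agent.Omega.Abl

open Subgroup Cfsg.Agent.Omega.BTwo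

variable {G : Type*} [Group G] {ι : Type*}

/-- `V` with lines `R i` and two abelian groups `A i`, `B i` for every line. -/
structure TwoAb (V : Subgroup G) (R A B : ι → Subgroup G) : Prop where
  R_le : ∀ i, R i ≤ V
  R_inf : ∀ i j, i ≠ j → R i ⊓ R j = ⊥
  R_sup : ∀ i j, i ≠ j → V ≤ R i ⊔ R j
  R_ne : ∀ i, R i ≠ ⊥
  third : ∀ i j : ι, ∃ k, k ≠ i ∧ k ≠ j
  V_A : ∀ i, V ≤ A i
  R_B : ∀ i, R i ≤ B i
  A_comm : ∀ i, ∀ a ∈ A i, ∀ b ∈ A i, a * b = b * a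
  B_comm : ∀ i, ∀ a ∈ B i, ∀ b ∈ B i, a * b = b * a
  B_sq : ∀ i, ∀ b ∈ B i, b * b = 1
  B_N : ∀ i, B i ≤ normalizer (V : Set G)
  perm : ∀ g ∈ normalizer (V : Set G), ∀ i, ∃ j, cj g (R i) = R j
  cjA : ∀ g, ∀ i j, cj g (R i) = R j → cj g (A i) = A j
  cjB : ∀ g, ∀ i j, cj g (R i) = R j → cj g (B i) = B j
  cAB : ∀ i, ∀ a ∈ A i, ∀ b ∈ B i, a * b * a⁻¹ * b⁻¹ ∈ R i
  inj : ∀ i, ∀ b ∈ B i, ∀ v ∈ V, b * v = v * b → v ∉ R i → b ∈ centralizer (V : Set G)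
  trans : ∀ i j k, j ≠ i → k ≠ i → ∃ b ∈ B i, cj b (R j) = R k
  cent : ∀ g, (∀ i, ∀ b ∈ B i, g * b = b * g) → g = 1
  Q : ∀ i, ∀ b ∈ B i, ∀ q ∈ O2 (normalizer (R i : Set G)), q * b * q⁻¹ * b⁻¹ ∈ R i

/-- a torus element -/
structure Tor (V : Subgroup G) (R B : ι → Subgroup G) (i j : ι) (t : G) : Prop where
  ij : i ≠ j
  ex : ∃ k l, k ≠ l ∧ ∃ w ∈ B k, w ∉ centralizer (V : Set G) ∧ ∃ w' ∈ B l,
    w' ∉ centralizer (V : Set G) ∧ ∃ n : ℕ, t = (w * w') ^ (2 ^ n)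
  ti : cj t (R i) = R i
  tj : cj t (R j) = R j
  free : ∀ b ∈ B i, t * b * t⁻¹ * b⁻¹ ∈ centralizer (V : Set G) → b ∈ centralizer (V : Set G)

/-- an injective map between subgroups of the same order is surjective -/
theorem surj_of_inj [Finite G] {D E : Subgroup G} (f : G → G) (hf : ∀ x ∈ D, f x ∈ E)
    (hi : ∀ x ∈ D, ∀ y ∈ D, f x = f y → x = y) (hc : Nat.card E ≤ Nat.card D) {e : G} (he : e ∈ E) :
    ∃ x ∈ D, f x = e := by
  let F : D → E := fun x => ⟨f x, hf x x.2⟩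
  have hF : Function.Injective F := by
    intro x y h
    exact Subtype.ext (hi x x.2 y y.2 (congrArg Subtype.val h))
  have hc' : Nat.card D = Nat.card E := le_antisymm (Nat.card_le_card_of_injective F hF) hc
  have hs : Function.Surjective F :=
    (hF.bijective_of_nat_card_le hc).2
  obtain ⟨x, hx⟩ := hs ⟨e, he⟩
  exact ⟨x, x.2, congrArg Subtype.val hx⟩

/-- the commutator map is a homomorphism modulo ... : basic identity -/
theorem comm_mul_right (g x y : G) :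
    g * (x * y) * g⁻¹ * (x * y)⁻¹ = (g * x * g⁻¹ * x⁻¹) * (x * (g * y * g⁻¹ * y⁻¹) * x⁻¹) := by group

theorem comm_inv (a b : G) : (a * b * a⁻¹ * b⁻¹)⁻¹ = b * a * b⁻¹ * a⁻¹ := by group

section

variable {V : Subgroup G} {R A B : ι → Subgroup G} (h : TwoAb V R A B)
include h

theorem TwoAb.R_index {i j : ι} (e : R i = R j) : i = j := by
  by_contra hne
  have := h.R_inf i j hne
  rw [e, inf_idem] at this
  exact h.R_ne j this

theorem TwoAb.eq_one {i j : ι} (hij : i ≠ j) {a : G} (h1 : a ∈ R i) (h2 : a ∈ R j) : a = 1 := by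
  have : a ∈ R i ⊓ R j := ⟨h1, h2⟩
  rw [h.R_inf i j hij] at this
  exact mem_bot.1 this

theorem TwoAb.exists_ne (i : ι) : ∃ a ∈ R i, a ≠ 1 := by
  by_contra hc
  push Not at hc
  exact h.R_ne i ((eq_bot_iff_forall _).2 hc)

theorem TwoAb.A_cent (i : ι) : A i ≤ centralizer (V : Set G) := by
  intro a ha
  rw [mem_centralizer_iff]
  intro v hv
  exact h.A_comm i v (h.V_A i hv) a ha

theorem TwoAb.V_comm {u v : G} (hu : u ∈ V) (hv : v ∈ V) : u * v = v * u := by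
  by_cases hne : Nonempty ι
  · obtain ⟨i⟩ := hne
    exact h.A_comm i u (h.V_A i hu) v (h.V_A i hv)
  · have : u = 1 := h.cent u fun i => (hne ⟨i⟩).elim
    rw [this, one_mul, mul_one]

theorem TwoAb.V_cent : V ≤ centralizer (V : Set G) := by
  intro a ha
  rw [mem_centralizer_iff]
  intro v hv
  exact h.V_comm hv ha

/-- `C(V)` normalises `A i`, `B i`. -/
theorem TwoAb.cent_norm {c : G} (hc : c ∈ centralizer (V : Set G)) (i : ι) : cj c (R i) = R i := by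
  rw [cj_eq_self_iff, mem_normalizer_iff]
  rw [mem_centralizer_iff] at hc
  intro x
  constructor
  · intro hx
    have h1 := hc x (h.R_le i hx)
    have h2 : c * x * c⁻¹ = x := by rw [← h1]; group
    rwa [h2]
  · intro hx
    have h1 := hc _ (h.R_le i hx)
    have h2 : c * x * c⁻¹ = x := by
      have h3 : c * x * c⁻¹ * c = c * (c * x * c⁻¹) := h1
      have h4 : c * x = c * (c * x * c⁻¹) := by
        calc c * x = c * x * c⁻¹ * c := by group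
          _ = _ := h3
      exact (mul_left_cancel h4).symm
    rwa [h2] at hx

theorem TwoAb.cent_normA {c : G} (hc : c ∈ centralizer (V : Set G)) (i : ι) {a : G} (ha : a ∈ A i) :
    c * a * c⁻¹ ∈ A i := by
  have := h.cjA c i i (h.cent_norm hc i)
  rw [← this]
  exact conj_mem_cj ha

theorem TwoAb.cent_normB {c : G} (hc : c ∈ centralizer (V : Set G)) (i : ι) {a : G} (ha : a ∈ B i) :
    c * a * c⁻¹ ∈ B i := by
  have := h.cjB c i i (h.cent_norm hc i)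
  rw [← this]
  exact conj_mem_cj ha

omit h in
/-- `N(V)` normalises `C(V)`. -/
theorem cent_conj {g c : G} (hg : g ∈ normalizer (V : Set G)) (hc : c ∈ centralizer (V : Set G)) :
    g * c * g⁻¹ ∈ centralizer (V : Set G) :=
  conj_mem_of_normalizer (normalizer_le_normalizer_centralizer V hg) hc

/-- `B0 i = C_{B i}(V)` -/
def B0 (V : Subgroup G) (B : ι → Subgroup G) (i : ι) : Subgroup G := B i ⊓ centralizer (V : Set G)

omit h in
theorem mem_B0 {i : ι} {x : G} : x ∈ B0 V B i ↔ x ∈ B i ∧ x ∈ centralizer (V : Set G) := mem_inf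

theorem TwoAb.cj_B0 {g : G} (hg : g ∈ normalizer (V : Set G)) {i j : ι} (e : cj g (R i) = R j) :
    cj g (B0 V B i) = B0 V B j := by
  rw [B0, B0, cj_inf, h.cjB g i j e, ← centralizer_cj, cj_eq_self_iff.2 hg]

/-- `b ∈ B i` fixes `R i`. -/
theorem TwoAb.B_fix (i : ι) {b : G} (hb : b ∈ B i) : cj b (R i) = R i := by
  rw [cj_eq_self_iff, mem_normalizer_iff]
  intro x
  constructor
  · intro hx
    have h1 := h.B_comm i b hb x (h.R_B i hx)
    rw [h1, mul_inv_cancel_right]; exact hx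
  · intro hx
    have h1 : x ∈ B i := by
      have := (B i).mul_mem ((B i).mul_mem ((B i).inv_mem hb) (h.R_B i hx)) hb
      have e : b⁻¹ * (b * x * b⁻¹) * b = x := by group
      rwa [e] at this
    have h2 := h.B_comm i b hb x h1
    rwa [h2, mul_inv_cancel_right] at hx

/-- if `b ∈ B i` does not centralise `V`, then it moves all the other lines. -/
theorem TwoAb.B_move {i j : ι} (hij : j ≠ i) {b : G} (hb : b ∈ B i) (hbV : b ∉ centralizer (V : Set G)) :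
    cj b (R j) ≠ R j := by
  intro e
  obtain ⟨v, hv, hv1⟩ := h.exists_ne j
  have hvV := h.R_le j hv
  have h1 : b * v * b⁻¹ ∈ R j := by rw [← e]; exact conj_mem_cj hv
  have h2 : v * b * v⁻¹ * b⁻¹ ∈ R i := h.cAB i v (h.V_A i hvV) b hb
  have h3 : v * b * v⁻¹ * b⁻¹ ∈ R j := by
    have h4 := (R j).mul_mem hv ((R j).inv_mem h1)
    have e2 : v * (b * v * b⁻¹)⁻¹ = v * b * v⁻¹ * b⁻¹ := by group
    rwa [e2] at h4
  have h5 := h.eq_one hij h3 h2
  have h6 : b * v = v * b := by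
    have : v * b = b * v := by
      calc v * b = (v * b * v⁻¹ * b⁻¹) * (b * v) := by group
        _ = b * v := by rw [h5, one_mul]
    exact this.symm
  refine hbV (h.inj i b hb v hvV h6 fun hvi => hv1 (h.eq_one hij hv hvi))

theorem TwoAb.exists_move (i : ι) : ∃ b ∈ B i, b ∉ centralizer (V : Set G) := by
  obtain ⟨j, hj, -⟩ := h.third i i
  obtain ⟨k, hk, hkj⟩ := h.third i j
  obtain ⟨b, hb, e⟩ := h.trans i j k hj hk
  refine ⟨b, hb, fun hc => ?_⟩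
  rw [h.cent_norm hc] at e
  exact hkj (h.R_index e).symm

/-- `B i ∩ B j = 1` -/
theorem TwoAb.B_inf {i j : ι} (hij : i ≠ j) {f : G} (h1 : f ∈ B i) (h2 : f ∈ B j) : f = 1 := by
  refine h.cent f fun k b hb => ?_
  by_cases hk : k = i
  · subst hk; exact h.B_comm k f h1 b hb
  · obtain ⟨x, hx, e⟩ := h.trans i j k hij.symm hk
    have e2 := h.cjB x j k e
    rw [← e2, mem_cj] at hb
    have h3 := h.B_comm j f h2 _ hb
    have h4 := h.B_comm i f h1 x hx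
    have h5 : f * (x * (x⁻¹ * b * x) * x⁻¹) = x * (x⁻¹ * b * x) * x⁻¹ * f := by
      calc f * (x * (x⁻¹ * b * x) * x⁻¹) = (f * x) * (x⁻¹ * b * x) * x⁻¹ := by group
        _ = x * (f * (x⁻¹ * b * x)) * x⁻¹ := by rw [h4]; group
        _ = x * (x⁻¹ * b * x) * (f * x⁻¹) := by rw [h3]; group
        _ = x * (x⁻¹ * b * x) * (x⁻¹ * (x * f) * x⁻¹) := by group
        _ = x * (x⁻¹ * b * x) * (x⁻¹ * (f * x) * x⁻¹) := by rw [h4]
        _ = x * (x⁻¹ * b * x) * x⁻¹ * f := by group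
    have e3 : x * (x⁻¹ * b * x) * x⁻¹ = b := by group
    rwa [e3] at h5

/-- `[B0 i, B0 j] = 1` -/
theorem TwoAb.B0_comm (i j : ι) {b c : G} (hb : b ∈ B0 V B i) (hc : c ∈ B0 V B j) : b * c = c * b := by
  by_cases hij : i = j
  · subst hij; exact h.B_comm i b hb.1 c hc.1
  · have h1 : b * c * b⁻¹ * c⁻¹ ∈ B j := mul_mem (h.cent_normB hb.2 j hc.1) (inv_mem hc.1)
    have h2 : b * c * b⁻¹ * c⁻¹ ∈ B i := by
      have := mul_mem hb.1 (h.cent_normB hc.2 i (inv_mem hb.1))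
      have e : b * (c * b⁻¹ * c⁻¹) = b * c * b⁻¹ * c⁻¹ := by group
      rwa [e] at this
    have h3 := h.B_inf hij h2 h1
    calc b * c = (b * c * b⁻¹ * c⁻¹) * (c * b) := by group
      _ = c * b := by rw [h3, one_mul]

/-- `[b, c] ∈ B0 i` for `b ∈ B i`, `c ∈ B0 j` -/
theorem TwoAb.comm_mem {i j : ι} {b c : G} (hb : b ∈ B i) (hc : c ∈ B0 V B j) :
    b * c * b⁻¹ * c⁻¹ ∈ B0 V B i := by
  refine ⟨?_, ?_⟩
  · have := mul_mem hb (h.cent_normB hc.2 i (inv_mem hb))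
    have e : b * (c * b⁻¹ * c⁻¹) = b * c * b⁻¹ * c⁻¹ := by group
    rwa [e] at this
  · exact (centralizer (V : Set G)).mul_mem (cent_conj (h.B_N i hb) hc.2)
      ((centralizer (V : Set G)).inv_mem hc.2)

/-- injectivity -/
theorem TwoAb.eq_one_of_comm {i j : ι} (hij : j ≠ i) {b c : G} (hb : b ∈ B i)
    (hbV : b ∉ centralizer (V : Set G)) (hc : c ∈ B j) (e : b * c = c * b) : c = 1 := by
  obtain ⟨k, hk⟩ := h.perm b (h.B_N i hb) j
  have hkj : k ≠ j := by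
    rintro rfl
    exact h.B_move hij hb hbV hk
  have h1 : c ∈ B k := by
    rw [← h.cjB b j k hk, mem_cj]
    have : b⁻¹ * c * b = c := by rw [mul_assoc, ← e]; group
    rwa [this]
  exact h.B_inf hkj h1 hc

/-- `U` -/
def UU (V : Subgroup G) (B : ι → Subgroup G) : Subgroup G := ⨆ i, B0 V B i

omit h in
theorem B0_le_U (i : ι) : B0 V B i ≤ UU V B := le_iSup (fun i => B0 V B i) i

theorem TwoAb.B0_le_sup {i j : ι} (hij : j ≠ i) (k : ι) : B0 V B k ≤ B0 V B i ⊔ B0 V B j := by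
  by_cases hk : k = i
  · subst hk; exact le_sup_left
  · obtain ⟨b, hb, e⟩ := h.trans i j k hij hk
    rw [← h.cj_B0 (h.B_N i hb) e, cj_le_iff]
    intro c hc
    have h1 := h.comm_mem hb hc
    have e2 : b * c * b⁻¹ = (b * c * b⁻¹ * c⁻¹) * c := by group
    rw [e2]
    exact mul_mem (mem_sup_left h1) (mem_sup_right hc)

theorem TwoAb.U_eq {i j : ι} (hij : j ≠ i) : UU V B = B0 V B i ⊔ B0 V B j :=
  le_antisymm (iSup_le fun k => h.B0_le_sup hij k) (sup_le (B0_le_U i) (B0_le_U j))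

theorem TwoAb.mem_U {i j : ι} (hij : j ≠ i) {u : G} (hu : u ∈ UU V B) :
    ∃ p ∈ B0 V B i, ∃ c ∈ B0 V B j, u = p * c := by
  let T : Subgroup G :=
    { carrier := {x | ∃ p ∈ B0 V B i, ∃ c ∈ B0 V B j, x = p * c}
      one_mem' := ⟨1, one_mem _, 1, one_mem _, (mul_one 1).symm⟩
      mul_mem' := by
        rintro _ _ ⟨p, hp, c, hc, rfl⟩ ⟨p', hp', c', hc', rfl⟩
        refine ⟨p * p', mul_mem hp hp', c * c', mul_mem hc hc', ?_⟩
        have e := h.B0_comm i j hp' hc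
        calc p * c * (p' * c') = p * (c * p') * c' := by group
          _ = p * (p' * c) * c' := by rw [e]
          _ = p * p' * (c * c') := by group
      inv_mem' := by
        rintro _ ⟨p, hp, c, hc, rfl⟩
        refine ⟨p⁻¹, inv_mem hp, c⁻¹, inv_mem hc, ?_⟩
        have e := h.B0_comm i j hp hc
        rw [e, mul_inv_rev] }
  have hT : B0 V B i ⊔ B0 V B j ≤ T :=
    sup_le (fun x hx => ⟨x, hx, 1, one_mem _, (mul_one x).symm⟩)
      (fun x hx => ⟨1, one_mem _, x, hx, (one_mul x).symm⟩)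
  rw [h.U_eq hij] at hu
  exact hT hu

theorem TwoAb.exists_ne_index (i : ι) : ∃ j, j ≠ i := by
  obtain ⟨k, hk, -⟩ := h.third i i
  exact ⟨k, hk⟩

theorem TwoAb.B0_comm_U (i : ι) {b u : G} (hb : b ∈ B0 V B i) (hu : u ∈ UU V B) : b * u = u * b := by
  obtain ⟨j, hj⟩ := h.exists_ne_index i
  obtain ⟨p, hp, c, hc, rfl⟩ := h.mem_U hj hu
  have e1 := h.B0_comm i i hb hp
  have e2 := h.B0_comm i j hb hc
  calc b * (p * c) = (b * p) * c := by group
    _ = p * (b * c) := by rw [e1]; group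
    _ = p * c * b := by rw [e2]; group

theorem TwoAb.U_comm [Nonempty ι] {u v : G} (hu : u ∈ UU V B) (hv : v ∈ UU V B) : u * v = v * u := by
  obtain ⟨i⟩ := ‹Nonempty ι›
  obtain ⟨j, hj⟩ := h.exists_ne_index i
  obtain ⟨p, hp, c, hc, rfl⟩ := h.mem_U hj hu
  have e1 := h.B0_comm_U i hp hv
  have e2 := h.B0_comm_U j hc hv
  calc p * c * v = p * (c * v) := by group
    _ = (p * v) * c := by rw [e2]; group
    _ = v * (p * c) := by rw [e1]; group

theorem TwoAb.U_sq [Nonempty ι] {u : G} (hu : u ∈ UU V B) : u * u = 1 := by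
  obtain ⟨i⟩ := ‹Nonempty ι›
  obtain ⟨j, hj⟩ := h.exists_ne_index i
  obtain ⟨p, hp, c, hc, rfl⟩ := h.mem_U hj hu
  have e := h.B0_comm i j hp hc
  calc p * c * (p * c) = p * (c * p) * c := by group
    _ = (p * p) * (c * c) := by rw [← e]; group
    _ = 1 := by rw [h.B_sq i p hp.1, h.B_sq j c hc.1, mul_one]

theorem TwoAb.U_conj {g : G} (hg : g ∈ normalizer (V : Set G)) {u : G} (hu : u ∈ UU V B) :
    g * u * g⁻¹ ∈ UU V B := by
  have : cj g (UU V B) ≤ UU V B := by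
    rw [UU, cj_iSup]
    refine iSup_le fun i => ?_
    obtain ⟨j, hj⟩ := h.perm g hg i
    rw [h.cj_B0 hg hj]
    exact B0_le_U j
  exact this (conj_mem_cj hu)

theorem TwoAb.R_le_B0 (i : ι) : R i ≤ B0 V B i := fun _ hx => ⟨h.R_B i hx, h.V_cent (h.R_le i hx)⟩

theorem TwoAb.V_le_U [Nonempty ι] : V ≤ UU V B := by
  obtain ⟨i⟩ := ‹Nonempty ι›
  obtain ⟨j, hj⟩ := h.exists_ne_index i
  exact (h.R_sup i j hj.symm).trans
    (sup_le ((h.R_le_B0 i).trans (B0_le_U i)) ((h.R_le_B0 j).trans (B0_le_U j)))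

theorem TwoAb.exists_conj_index (i j : ι) : ∃ g ∈ normalizer (V : Set G), cj g (R i) = R j := by
  obtain ⟨k, hki, hkj⟩ := h.third i j
  obtain ⟨b, hb, e⟩ := h.trans k i j hki.symm hkj.symm
  exact ⟨b, h.B_N k hb, e⟩

theorem TwoAb.card_B0 (i j : ι) : Nat.card (B0 V B i) = Nat.card (B0 V B j) := by
  obtain ⟨g, hg, e⟩ := h.exists_conj_index i j
  rw [← h.cj_B0 hg e, card_cj]

theorem TwoAb.card_R (i j : ι) : Nat.card (R i) = Nat.card (R j) := by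
  obtain ⟨g, hg, e⟩ := h.exists_conj_index i j
  rw [← e, card_cj]

/-- `c ↦ [b, c]` is multiplicative on `B0 j`. -/
theorem TwoAb.comm_hom {i j : ι} {b c c' : G} (hb : b ∈ B i) (hc : c ∈ B0 V B j) (hc' : c' ∈ B0 V B j) :
    b * (c * c') * b⁻¹ * (c * c')⁻¹ = (b * c * b⁻¹ * c⁻¹) * (b * c' * b⁻¹ * c'⁻¹) := by
  have h1 := h.comm_mem hb hc'
  have h2 := h.B0_comm j i hc h1
  rw [comm_mul_right]
  congr 1
  rw [h2, mul_inv_cancel_right]

theorem TwoAb.comm_inj {i j : ι} (hij : j ≠ i) {b : G} (hb : b ∈ B i) (hbV : b ∉ centralizer (V : Set G))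
    {c c' : G} (hc : c ∈ B0 V B j) (hc' : c' ∈ B0 V B j)
    (e : b * c * b⁻¹ * c⁻¹ = b * c' * b⁻¹ * c'⁻¹) : c = c' := by
  have h1 := h.comm_hom hb (inv_mem hc') hc
  have h2 := h.comm_hom hb (inv_mem hc') hc'
  rw [inv_mul_cancel, mul_one, mul_inv_cancel, inv_one, mul_one] at h2
  rw [e, ← h2] at h1
  have h3 : b * (c'⁻¹ * c) = c'⁻¹ * c * b := by
    calc b * (c'⁻¹ * c) = (b * (c'⁻¹ * c) * b⁻¹ * (c'⁻¹ * c)⁻¹) * (c'⁻¹ * c * b) := by group
      _ = _ := by rw [h1, one_mul]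
  have h4 := h.eq_one_of_comm hij hb hbV (mul_mem (inv_mem hc'.1) hc.1) h3
  exact (inv_mul_eq_one.1 h4).symm

/-- if `[b, c] ∈ R i` then `c ∈ R j`. -/
theorem TwoAb.mem_R_of_comm [Finite G] {i j : ι} (hij : j ≠ i) {b : G} (hb : b ∈ B i)
    (hbV : b ∉ centralizer (V : Set G)) {c : G} (hc : c ∈ B0 V B j) (hR : b * c * b⁻¹ * c⁻¹ ∈ R i) :
    c ∈ R j := by
  obtain ⟨v, hv, e⟩ := surj_of_inj (D := R j) (E := R i) (fun v => b * v * b⁻¹ * v⁻¹)
    (fun v hv => by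
      have := inv_mem (h.cAB i v (h.V_A i (h.R_le j hv)) b hb)
      rwa [comm_inv] at this)
    (fun x hx y hy e => h.comm_inj hij hb hbV (h.R_le_B0 j hx) (h.R_le_B0 j hy) e)
    (h.card_R i j).le hR
  have := h.comm_inj hij hb hbV (h.R_le_B0 j hv) hc e
  rwa [← this]

/-- `C_U(b) ≤ B0 i` -/
theorem TwoAb.mem_B0_of_comm {i : ι} {b : G} (hb : b ∈ B i) (hbV : b ∉ centralizer (V : Set G)) {u : G}
    (hu : u ∈ UU V B) (e : b * u = u * b) : u ∈ B0 V B i := by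
  obtain ⟨j, hj⟩ := h.exists_ne_index i
  obtain ⟨p, hp, c, hc, rfl⟩ := h.mem_U hj hu
  have e1 := h.B_comm i b hb p hp.1
  have e2 : b * c = c * b := by
    have h1 : p * (b * c) = p * (c * b) := by
      calc p * (b * c) = (p * b) * c := by group
        _ = b * (p * c) := by rw [← e1]; group
        _ = p * c * b := e
        _ = p * (c * b) := by group
    exact mul_left_cancel h1
  have := h.eq_one_of_comm hj hb hbV hc.1 e2
  rw [this, mul_one]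
  exact hp

/-- `V ∩ B i = R i` -/
theorem TwoAb.V_inf_B (i : ι) {v : G} (hv : v ∈ V) (hvB : v ∈ B i) : v ∈ R i := by
  by_contra hc
  obtain ⟨b, hb, hbV⟩ := h.exists_move i
  exact hbV (h.inj i b hb v hv (h.B_comm i b hb v hvB) hc)

/-! ### The groups `A i` -/

/-- `I` -/
def II (A : ι → Subgroup G) : Subgroup G := ⨅ i, A i

omit h in
theorem mem_I {x : G} : x ∈ II A ↔ ∀ i, x ∈ A i := mem_iInf

theorem TwoAb.inf_step {i j : ι} {f b : G} (hf : f ∈ A i) (hf' : f ∈ A j) (hb : b ∈ B i) :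
    b⁻¹ * f * b ∈ A i ∧ b⁻¹ * f * b ∈ A j := by
  have h1 : f * b⁻¹ * f⁻¹ * b⁻¹⁻¹ ∈ R i := h.cAB i f hf b⁻¹ (inv_mem hb)
  have h2 : b⁻¹ * f * b = (f * b⁻¹ * f⁻¹ * b⁻¹⁻¹)⁻¹ * f := by group
  have h3 := h.R_le i h1
  rw [h2]
  exact ⟨mul_mem (inv_mem (h.V_A i h3)) hf, mul_mem (inv_mem (h.V_A j h3)) hf'⟩

/-- `A i ∩ A j ≤ A k` -/
theorem TwoAb.inf_le {i j : ι} (hij : j ≠ i) {f : G} (hf : f ∈ A i) (hf' : f ∈ A j) (k : ι) : f ∈ A k := by
  by_cases hk : k = i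
  · subst hk; exact hf
  · obtain ⟨b, hb, e⟩ := h.trans i j k hij hk
    rw [← h.cjA b j k e, mem_cj]
    exact (h.inf_step hf hf' hb).2

theorem TwoAb.mem_I_of {i j : ι} (hij : j ≠ i) {f : G} (hf : f ∈ A i) (hf' : f ∈ A j) : f ∈ II A :=
  mem_I.2 (h.inf_le hij hf hf')

theorem TwoAb.V_le_I : V ≤ II A := fun _ hv => mem_I.2 fun i => h.V_A i hv

theorem TwoAb.I_conj {g : G} (hg : g ∈ normalizer (V : Set G)) {f : G} (hf : f ∈ II A) :
    g * f * g⁻¹ ∈ II A := by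
  rw [mem_I] at hf ⊢
  intro i
  obtain ⟨j, hj⟩ := h.perm g⁻¹ (inv_mem hg) i
  have e : cj g (R j) = R i := by rw [← hj, cj_cj_inv]
  rw [← h.cjA g j i e]
  exact conj_mem_cj (hf j)

/-- `A j ∩ U` -/
theorem TwoAb.A_inf_U [Finite G] {i j : ι} (hij : j ≠ i) {u : G} (hu : u ∈ UU V B) (hA : u ∈ A i) :
    ∃ v ∈ R j, ∃ f ∈ A i ⊓ B i, u = f * v := by
  obtain ⟨p, hp, c, hc, rfl⟩ := h.mem_U hij hu
  obtain ⟨b, hb, hbV⟩ := h.exists_move i
  have h1 := inv_mem (h.cAB i _ hA b hb)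
  rw [comm_inv] at h1
  have h2 : b * (p * c) * b⁻¹ * (p * c)⁻¹ = b * c * b⁻¹ * c⁻¹ := by
    have h3 := h.comm_mem hb hc
    have h4 := h.B0_comm i i hp h3
    have h5 := h.B_comm i b hb p hp.1
    calc b * (p * c) * b⁻¹ * (p * c)⁻¹ = (b * p) * b⁻¹ * ((b * c * b⁻¹ * c⁻¹)) * p⁻¹ := by group
      _ = p * (b * c * b⁻¹ * c⁻¹) * p⁻¹ := by rw [h5]; group
      _ = _ := by rw [h4, mul_inv_cancel_right]
  rw [h2] at h1
  have hcR := h.mem_R_of_comm hij hb hbV hc h1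
  refine ⟨c, hcR, p, ⟨?_, hp.1⟩, rfl⟩
  have := mul_mem hA (inv_mem (h.V_A i (h.R_le j hcR)))
  rwa [mul_inv_cancel_right] at this

end

/-! ### The torus -/

section tor

variable {V : Subgroup G} {R A B : ι → Subgroup G} (h : TwoAb V R A B) {i j : ι} {t : G}
  (ht : Tor V R B i j t)
include h

theorem TwoAb.mem_of_prod [Nonempty ι] {k l : ι} (hkl : k ≠ l) {w w' : G} (hw : w ∈ B k)
    (hwV : w ∉ centralizer (V : Set G)) (hw' : w' ∈ B l) (hw'V : w' ∉ centralizer (V : Set G)) (n : ℕ) :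
    ∀ u ∈ UU V B, (w * w') ^ (2 ^ n) * u = u * (w * w') ^ (2 ^ n) → u = 1 := by
  have hwN := h.B_N k hw
  have hw'N := h.B_N l hw'
  induction n with
  | zero =>
    intro u hu e
    rw [pow_zero, pow_one] at e
    have hw2 := h.B_sq k w hw
    have hw2' := h.B_sq l w' hw'
    have hwi : w⁻¹ = w := inv_eq_of_mul_eq_one_left hw2
    have hwi' : w'⁻¹ = w' := inv_eq_of_mul_eq_one_left hw2'
    -- `w' u w' = w u w`
    have e1 : w' * u * w'⁻¹ = w * u * w⁻¹ := by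
      have : w * (w' * u * w'⁻¹) * w⁻¹ = u := by
        calc w * (w' * u * w'⁻¹) * w⁻¹ = (w * w' * u) * (w * w')⁻¹ := by group
          _ = u := by rw [e]; group
      calc w' * u * w'⁻¹ = w⁻¹ * (w * (w' * u * w'⁻¹) * w⁻¹) * w := by group
        _ = w⁻¹ * u * w := by rw [this]
        _ = w * u * w⁻¹ := by rw [hwi]
    -- `u * (w u w⁻¹)` is fixed
    set u' := u * (w * u * w⁻¹) with hu'
    have hwu : w * u * w⁻¹ ∈ UU V B := h.U_conj hwN hu
    have hu'U : u' ∈ UU V B := mul_mem hu hwu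
    have e2 : w * u' * w⁻¹ = u' := by
      have e3 : w * u' * w⁻¹ = (w * u * w⁻¹) * ((w * w) * u * (w * w)⁻¹) := by rw [hu']; group
      rw [e3, hw2, one_mul, inv_one, mul_one, h.U_comm hwu hu]
    have e4 : w' * u' * w'⁻¹ = u' := by
      have e3 : w' * u' * w'⁻¹ = (w' * u * w'⁻¹) * (w' * (w * u * w⁻¹) * w'⁻¹) := by rw [hu']; group
      rw [e3, ← e1]
      have e5 : w' * (w' * u * w'⁻¹) * w'⁻¹ = (w' * w') * u * (w' * w')⁻¹ := by group
      rw [e5, hw2', one_mul, inv_one, mul_one, e1, h.U_comm hwu hu]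
    have hf : ∀ x : G, x * u' * x⁻¹ = u' → x * u' = u' * x := by
      intro x hx
      calc x * u' = (x * u' * x⁻¹) * x := by group
        _ = _ := by rw [hx]
    have h1 := h.mem_B0_of_comm hw hwV hu'U (hf w e2)
    have h2 := h.mem_B0_of_comm hw' hw'V hu'U (hf w' e4)
    have h3 := h.B_inf hkl h1.1 h2.1
    have h4 : w * u * w⁻¹ = u := by
      have h5 : w * u * w⁻¹ = u⁻¹ := by
        rw [hu'] at h3
        exact (inv_eq_of_mul_eq_one_right h3).symm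
      rw [h5]
      exact inv_eq_of_mul_eq_one_left (h.U_sq hu)
    have h6 : w' * u * w'⁻¹ = u := by rw [e1, h4]
    have h7 : w * u = u * w := by
      calc w * u = (w * u * w⁻¹) * w := by group
        _ = _ := by rw [h4]
    have h8 : w' * u = u * w' := by
      calc w' * u = (w' * u * w'⁻¹) * w' := by group
        _ = _ := by rw [h6]
    exact h.B_inf hkl (h.mem_B0_of_comm hw hwV hu h7).1 (h.mem_B0_of_comm hw' hw'V hu h8).1
  | succ n ih =>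
    intro u hu e
    set s := (w * w') ^ (2 ^ n) with hs
    have hs2 : (w * w') ^ (2 ^ (n + 1)) = s * s := by
      rw [hs, pow_succ, pow_mul, pow_two]
    rw [hs2] at e
    have hsN : s ∈ normalizer (V : Set G) := pow_mem (mul_mem hwN hw'N) _
    have hsu := h.U_conj hsN hu
    have h1 : s * (u * (s * u * s⁻¹)) = u * (s * u * s⁻¹) * s := by
      have h2 : s * s * u * (s * s)⁻¹ = u := by rw [e]; group
      calc s * (u * (s * u * s⁻¹)) = (s * u * s⁻¹) * (s * s * u * (s * s)⁻¹) * s := by group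
        _ = (s * u * s⁻¹) * u * s := by rw [h2]
        _ = u * (s * u * s⁻¹) * s := by rw [h.U_comm hsu hu]
    have h2 := ih _ (mul_mem hu hsu) h1
    have h3 : s * u * s⁻¹ = u := by
      have h5 : s * u * s⁻¹ = u⁻¹ := (inv_eq_of_mul_eq_one_right h2).symm
      rw [h5]
      exact inv_eq_of_mul_eq_one_left (h.U_sq hu)
    refine ih u hu ?_
    calc s * u = (s * u * s⁻¹) * s := by group
      _ = _ := by rw [h3]

include ht

theorem Tor.norm : t ∈ normalizer (V : Set G) := by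
  obtain ⟨k, l, -, w, hw, -, w', hw', -, n, rfl⟩ := ht.ex
  exact pow_mem (mul_mem (h.B_N k hw) (h.B_N l hw')) _

/-- `C_U(t) = 1` -/
theorem Tor.eq_one {u : G} (hu : u ∈ UU V B) (e : t * u = u * t) : u = 1 := by
  obtain ⟨k, l, hkl, w, hw, hwV, w', hw', hw'V, n, rfl⟩ := ht.ex
  have : Nonempty ι := ⟨k⟩
  exact h.mem_of_prod hkl hw hwV hw' hw'V n u hu e

/-- `u ↦ [t, u]` is injective on `U`. -/
theorem Tor.inj {u u' : G} (hu : u ∈ UU V B) (hu' : u' ∈ UU V B)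
    (e : t * u * t⁻¹ * u⁻¹ = t * u' * t⁻¹ * u'⁻¹) : u = u' := by
  have : Nonempty ι := ⟨i⟩
  have h1 : t * (u'⁻¹ * u) * t⁻¹ = u'⁻¹ * u := by
    have e1 : t * u * t⁻¹ = (t * u' * t⁻¹ * u'⁻¹) * u := by rw [← e]; group
    have h2 := h.U_conj (Tor.norm h ht) hu'
    calc t * (u'⁻¹ * u) * t⁻¹ = (t * u' * t⁻¹)⁻¹ * (t * u * t⁻¹) := by group
      _ = (t * u' * t⁻¹)⁻¹ * ((t * u' * t⁻¹ * u'⁻¹) * u) := by rw [e1]
      _ = u'⁻¹ * u := by group
  have h2 := Tor.eq_one h ht (mul_mem (inv_mem hu') hu) (by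
    calc t * (u'⁻¹ * u) = (t * (u'⁻¹ * u) * t⁻¹) * t := by group
      _ = _ := by rw [h1])
  exact (inv_mul_eq_one.1 h2).symm

/-- `C_{U/D}(t) = 1` for a `t`-invariant `D ≤ U` -/
theorem Tor.mem_of_comm [Finite G] {D : Subgroup G} (hD : D ≤ UU V B)
    (hDt : ∀ d ∈ D, t * d * t⁻¹ ∈ D) {u : G} (hu : u ∈ UU V B) (e : t * u * t⁻¹ * u⁻¹ ∈ D) : u ∈ D := by
  obtain ⟨d, hd, e1⟩ := surj_of_inj (D := D) (E := D) (fun d => t * d * t⁻¹ * d⁻¹)
    (fun d hd => mul_mem (hDt d hd) (inv_mem hd))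
    (fun x hx y hy e => Tor.inj h ht (hD hx) (hD hy) e) le_rfl e
  have := Tor.inj h ht (hD hd) hu e1
  rwa [← this]

theorem Tor.induct {P : G → Prop} (h1 : P 1) (hm : ∀ x y, P x → P y → P (x * y))
    (hB : ∀ k, ∀ b ∈ B k, P b) : P t := by
  obtain ⟨k, l, -, w, hw, -, w', hw', -, n, rfl⟩ := ht.ex
  have h2 : P (w * w') := hm _ _ (hB k w hw) (hB l w' hw')
  have h3 : ∀ m : ℕ, P ((w * w') ^ m) := by
    intro m
    induction m with
    | zero => rw [pow_zero]; exact h1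
    | succ m ih => rw [pow_succ]; exact hm _ _ ih h2
  exact h3 _

/-- `[I, t] ≤ V` -/
theorem Tor.comm_I {f : G} (hf : f ∈ II A) : t * f * t⁻¹ * f⁻¹ ∈ V := by
  have : Nonempty ι := ⟨i⟩
  have key : t ∈ normalizer (V : Set G) ∧ ∀ f ∈ II A, t * f * t⁻¹ * f⁻¹ ∈ V := by
    refine Tor.induct h ht (P := fun g => g ∈ normalizer (V : Set G) ∧ ∀ f ∈ II A, g * f * g⁻¹ * f⁻¹ ∈ V)
      ⟨one_mem _, fun f _ => by simp⟩ ?_ ?_
    · rintro x y ⟨hx, hx'⟩ ⟨hy, hy'⟩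
      refine ⟨mul_mem hx hy, fun f hf => ?_⟩
      have e : x * y * f * (x * y)⁻¹ * f⁻¹ = (x * (y * f * y⁻¹ * f⁻¹) * x⁻¹) * (x * f * x⁻¹ * f⁻¹) := by
        group
      rw [e]
      exact mul_mem (conj_mem_of_normalizer hx (hy' f hf)) (hx' f hf)
    · intro k b hb
      refine ⟨h.B_N k hb, fun f hf => ?_⟩
      have := inv_mem (h.cAB k f (mem_I.1 hf k) b hb)
      rw [comm_inv] at this
      exact h.R_le k this
  exact key.2 f hf

/-- `I ∩ U ≤ V` -/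
theorem Tor.I_inf_U [Finite G] {f : G} (hf : f ∈ II A) (hU : f ∈ UU V B) : f ∈ V := by
  have : Nonempty ι := ⟨i⟩
  refine Tor.mem_of_comm h ht h.V_le_U (fun d hd => conj_mem_of_normalizer (Tor.norm h ht) hd) hU
    (Tor.comm_I h ht hf)

/-- `A l ∩ B k = R k` for `k ≠ l` -/
theorem Tor.A_inf_B [Finite G] {k l : ι} (hkl : l ≠ k) {f : G} (hA : f ∈ A l) (hB : f ∈ B k) : f ∈ R k := by
  have : Nonempty ι := ⟨i⟩
  obtain ⟨m, hmk, hml⟩ := h.third k l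
  obtain ⟨b, hb, e⟩ := h.trans k l m hkl hmk
  have h1 : f ∈ A m := by
    rw [← h.cjA b l m e, mem_cj]
    have e2 := h.B_comm k b hb f hB
    have : b⁻¹ * f * b = f := by rw [mul_assoc, ← e2]; group
    rwa [this]
  have h2 : f ∈ II A := h.mem_I_of hml hA h1
  have h3 : f ∈ UU V B := B0_le_U k ⟨hB, h.A_cent l hA⟩
  exact h.V_inf_B k (Tor.I_inf_U h ht h2 h3) hB

/-- `[A u, B0 v] ≤ R v` -/
theorem Tor.comm_A_B0 [Finite G] {u v : ι} {a c : G} (ha : a ∈ A u) (hc : c ∈ B0 V B v) :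
    a * c * a⁻¹ * c⁻¹ ∈ R v := by
  by_cases huv : u = v
  · subst huv; exact h.cAB u a ha c hc.1
  · refine Tor.A_inf_B h ht huv ?_ (mul_mem (h.cent_normB (h.A_cent u ha) v hc.1) (inv_mem hc.1))
    have h1 := mul_mem ha (h.cent_normA hc.2 u (inv_mem ha))
    have e : a * (c * a⁻¹ * c⁻¹) = a * c * a⁻¹ * c⁻¹ := by group
    rwa [e] at h1

omit ht in
theorem Tor.alpha_hom' [Nonempty ι] {u : ι} {a c c' : G} (_ha : a ∈ A u) (hc : c ∈ UU V B)
    (h' : a * c' * a⁻¹ * c'⁻¹ ∈ V) :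
    a * (c * c') * a⁻¹ * (c * c')⁻¹ = (a * c * a⁻¹ * c⁻¹) * (a * c' * a⁻¹ * c'⁻¹) := by
  have h2 := h.U_comm hc (h.V_le_U h')
  rw [comm_mul_right]
  congr 1
  rw [h2, mul_inv_cancel_right]

/-- `[A u, U] ≤ V` -/
theorem Tor.alpha_mem [Finite G] {u : ι} {a c : G} (ha : a ∈ A u) (hc : c ∈ UU V B) :
    a * c * a⁻¹ * c⁻¹ ∈ V := by
  have : Nonempty ι := ⟨i⟩
  obtain ⟨p, hp, d, hd, rfl⟩ := h.mem_U (Ne.symm ht.ij) hc
  have h1 := h.R_le _ (Tor.comm_A_B0 h ht ha hp)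
  have h2 := h.R_le _ (Tor.comm_A_B0 h ht ha hd)
  rw [Tor.alpha_hom' h ha (B0_le_U i hp) h2]
  exact mul_mem h1 h2

theorem Tor.alpha_hom [Finite G] {u : ι} {a c c' : G} (ha : a ∈ A u) (hc : c ∈ UU V B)
    (hc' : c' ∈ UU V B) :
    a * (c * c') * a⁻¹ * (c * c')⁻¹ = (a * c * a⁻¹ * c⁻¹) * (a * c' * a⁻¹ * c'⁻¹) :=
  have : Nonempty ι := ⟨i⟩
  Tor.alpha_hom' h ha hc (Tor.alpha_mem h ht ha hc')

/-- `A u` acts on `U` and commutes there with `B k`. -/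
theorem Tor.alpha_B [Finite G] {u k : ι} {a b c : G} (ha : a ∈ A u) (hb : b ∈ B k)
    (hc : c ∈ UU V B) :
    a * (b * c * b⁻¹) * a⁻¹ * (b * c * b⁻¹)⁻¹ = b * (a * c * a⁻¹ * c⁻¹) * b⁻¹ := by
  have : Nonempty ι := ⟨i⟩
  obtain ⟨l, hl⟩ := h.exists_ne_index k
  obtain ⟨p, hp, d, hd, rfl⟩ := h.mem_U hl hc
  have hbN := h.B_N k hb
  have hp' : b * p * b⁻¹ = p := by rw [h.B_comm k b hb p hp.1, mul_inv_cancel_right]
  have hpU := B0_le_U k hp
  have hdU := B0_le_U l hd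
  have hdU' := h.U_conj hbN hdU
  -- the statement for `p`
  have e1 : b * (a * p * a⁻¹ * p⁻¹) * b⁻¹ = a * p * a⁻¹ * p⁻¹ := by
    have h1 := Tor.comm_A_B0 h ht ha hp
    rw [h.B_comm k b hb _ (h.R_B k h1), mul_inv_cancel_right]
  -- the statement for `d`
  have e2 : a * (b * d * b⁻¹) * a⁻¹ * (b * d * b⁻¹)⁻¹ = b * (a * d * a⁻¹ * d⁻¹) * b⁻¹ := by
    by_cases hbV : b ∈ centralizer (V : Set G)
    · -- `b ∈ B0 k`
      have h1 : b * d * b⁻¹ = d := by rw [h.B0_comm k l ⟨hb, hbV⟩ hd, mul_inv_cancel_right]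
      have h2 := h.R_le _ (Tor.comm_A_B0 h ht ha hd)
      have h3 : b * (a * d * a⁻¹ * d⁻¹) * b⁻¹ = a * d * a⁻¹ * d⁻¹ := by
        rw [← (mem_centralizer_iff.1 hbV) _ h2, mul_inv_cancel_right]
      rw [h1, h3]
    · obtain ⟨m, hm⟩ := h.perm b hbN l
      have hmk : m ≠ k := by
        rintro rfl
        have h1 := h.B_fix m hb
        rw [← h1] at hm
        exact hl (h.R_index (cj_injective hm))
      have hd' : b * d * b⁻¹ ∈ B0 V B m := by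
        rw [← h.cj_B0 hbN hm]; exact conj_mem_cj hd
      have h1 := Tor.comm_A_B0 h ht ha hd'
      have h2 := Tor.comm_A_B0 h ht ha hd
      have h3 : b * (a * d * a⁻¹ * d⁻¹) * b⁻¹ ∈ R m := by
        rw [← hm]; exact conj_mem_cj h2
      -- both sides are in `R m` and agree modulo `R k`
      have h4 := h.comm_mem hb hd
      have h5 := Tor.comm_A_B0 h ht ha h4
      have h6 : a * (b * d * b⁻¹) * a⁻¹ * (b * d * b⁻¹)⁻¹ =
          (a * (b * d * b⁻¹ * d⁻¹) * a⁻¹ * (b * d * b⁻¹ * d⁻¹)⁻¹) * (a * d * a⁻¹ * d⁻¹) := by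
        have e : b * d * b⁻¹ = (b * d * b⁻¹ * d⁻¹) * d := by group
        conv_lhs => rw [e]
        exact Tor.alpha_hom h ht ha (B0_le_U k h4) hdU
      have h7 : b * (a * d * a⁻¹ * d⁻¹) * b⁻¹ * (a * d * a⁻¹ * d⁻¹)⁻¹ ∈ R k := by
        have := inv_mem (h.cAB k _ (h.V_A k (h.R_le l h2)) b hb)
        rwa [comm_inv] at this
      set X := a * d * a⁻¹ * d⁻¹ with hX
      set Y := a * (b * d * b⁻¹ * d⁻¹) * a⁻¹ * (b * d * b⁻¹ * d⁻¹)⁻¹ with hY
      have h8 : Y * X * (b * X * b⁻¹)⁻¹ ∈ R m := by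
        rw [← h6]; exact mul_mem h1 (inv_mem h3)
      have h9 : Y * X * (b * X * b⁻¹)⁻¹ ∈ R k := by
        have e : Y * X * (b * X * b⁻¹)⁻¹ = Y * (b * X * b⁻¹ * X⁻¹)⁻¹ := by group
        rw [e]; exact mul_mem h5 (inv_mem h7)
      have h10 := h.eq_one hmk h8 h9
      rw [h6]
      exact mul_inv_eq_one.1 h10
  calc a * (b * (p * d) * b⁻¹) * a⁻¹ * (b * (p * d) * b⁻¹)⁻¹
      = a * ((b * p * b⁻¹) * (b * d * b⁻¹)) * a⁻¹ * ((b * p * b⁻¹) * (b * d * b⁻¹))⁻¹ := by group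
    _ = (a * p * a⁻¹ * p⁻¹) * (a * (b * d * b⁻¹) * a⁻¹ * (b * d * b⁻¹)⁻¹) := by
        rw [hp', Tor.alpha_hom h ht ha hpU hdU']
    _ = (b * (a * p * a⁻¹ * p⁻¹) * b⁻¹) * (b * (a * d * a⁻¹ * d⁻¹) * b⁻¹) := by rw [e1, e2]
    _ = b * ((a * p * a⁻¹ * p⁻¹) * (a * d * a⁻¹ * d⁻¹)) * b⁻¹ := by group
    _ = b * (a * (p * d) * a⁻¹ * (p * d)⁻¹) * b⁻¹ := by
        rw [← Tor.alpha_hom h ht ha hpU hdU]

/-- `A u` normalises `U`. -/
theorem Tor.A_norm_U [Finite G] {u : ι} {a c : G} (ha : a ∈ A u) (hc : c ∈ UU V B) :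
    a * c * a⁻¹ ∈ UU V B := by
  have : Nonempty ι := ⟨i⟩
  have h1 := h.V_le_U (Tor.alpha_mem h ht ha hc)
  have e : a * c * a⁻¹ = (a * c * a⁻¹ * c⁻¹) * c := by group
  rw [e]; exact mul_mem h1 hc

/-- the elements `g ∈ N(V)` which commute with `a` on `U` -/
theorem Tor.comm_mem_cent [Finite G] {u : ι} {a g : G} (ha : a ∈ A u) (hg : g ∈ normalizer (V : Set G))
    (hS : ∀ c ∈ UU V B, a * (g * c * g⁻¹) * a⁻¹ * (g * c * g⁻¹)⁻¹ = g * (a * c * a⁻¹ * c⁻¹) * g⁻¹) :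
    a * g * a⁻¹ * g⁻¹ ∈ centralizer (UU V B : Set G) := by
  rw [mem_centralizer_iff]
  intro c hc
  have h1 : g⁻¹ * c * g ∈ UU V B := by
    have := h.U_conj (inv_mem hg) hc
    rwa [inv_inv] at this
  have h2 : a⁻¹ * (g⁻¹ * c * g) * a ∈ UU V B := by
    have := Tor.A_norm_U h ht (inv_mem ha) h1
    rwa [inv_inv] at this
  have h3 := hS _ h2
  have h4 : a * g * a⁻¹ * g⁻¹ * c * (a * g * a⁻¹ * g⁻¹)⁻¹ = c := by
    calc a * g * a⁻¹ * g⁻¹ * c * (a * g * a⁻¹ * g⁻¹)⁻¹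
        = (a * (g * (a⁻¹ * (g⁻¹ * c * g) * a) * g⁻¹) * a⁻¹ * (g * (a⁻¹ * (g⁻¹ * c * g) * a) * g⁻¹)⁻¹) *
            (g * (a⁻¹ * (g⁻¹ * c * g) * a) * g⁻¹) := by group
      _ = g * (a * (a⁻¹ * (g⁻¹ * c * g) * a) * a⁻¹ * (a⁻¹ * (g⁻¹ * c * g) * a)⁻¹) * g⁻¹ *
            (g * (a⁻¹ * (g⁻¹ * c * g) * a) * g⁻¹) := by rw [h3]
      _ = c := by group
  calc c * (a * g * a⁻¹ * g⁻¹) = (a * g * a⁻¹ * g⁻¹ * c * (a * g * a⁻¹ * g⁻¹)⁻¹) * (a * g * a⁻¹ * g⁻¹) := by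
        rw [h4]
    _ = a * g * a⁻¹ * g⁻¹ * c := by group

theorem Tor.comm_B_cent [Finite G] {u k : ι} {a b : G} (ha : a ∈ A u) (hb : b ∈ B k) :
    a * b * a⁻¹ * b⁻¹ ∈ centralizer (UU V B : Set G) :=
  Tor.comm_mem_cent h ht ha (h.B_N k hb) fun _ hc => Tor.alpha_B h ht ha hb hc

theorem Tor.comm_t_cent [Finite G] {u : ι} {a : G} (ha : a ∈ A u) :
    a * t * a⁻¹ * t⁻¹ ∈ centralizer (UU V B : Set G) := by
  have key : t ∈ normalizer (V : Set G) ∧ ∀ c ∈ UU V B,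
      a * (t * c * t⁻¹) * a⁻¹ * (t * c * t⁻¹)⁻¹ = t * (a * c * a⁻¹ * c⁻¹) * t⁻¹ := by
    refine Tor.induct h ht (P := fun g => g ∈ normalizer (V : Set G) ∧ ∀ c ∈ UU V B,
      a * (g * c * g⁻¹) * a⁻¹ * (g * c * g⁻¹)⁻¹ = g * (a * c * a⁻¹ * c⁻¹) * g⁻¹)
      ⟨one_mem _, fun c _ => by simp⟩ ?_ ?_
    · rintro x y ⟨hx, hx'⟩ ⟨hy, hy'⟩
      refine ⟨mul_mem hx hy, fun c hc => ?_⟩
      have h1 := hx' _ (h.U_conj hy hc)
      have h2 := hy' c hc
      have e : x * y * c * (x * y)⁻¹ = x * (y * c * y⁻¹) * x⁻¹ := by group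
      rw [e, h1, h2]; group
    · exact fun k b hb => ⟨h.B_N k hb, fun c hc => Tor.alpha_B h ht ha hb hc⟩
  exact Tor.comm_mem_cent h ht ha key.1 key.2

end tor

section cen

variable {V : Subgroup G} {R A B : ι → Subgroup G} (h : TwoAb V R A B)
include h

theorem TwoAb.K_cent [Nonempty ι] {k : G} (hk : k ∈ centralizer (UU V B : Set G)) :
    k ∈ centralizer (V : Set G) :=
  centralizer_le (fun _ hx => h.V_le_U hx) hk

/-- `[K, B i] ≤ B0 i` -/
theorem TwoAb.K_comm [Nonempty ι] {k b : G} {i : ι} (hk : k ∈ centralizer (UU V B : Set G)) (hb : b ∈ B i) :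
    k * b * k⁻¹ * b⁻¹ ∈ B0 V B i := by
  have h1 := h.K_cent hk
  refine mem_B0.2 ⟨mul_mem (h.cent_normB h1 i hb) (inv_mem hb), ?_⟩
  have h2 := (centralizer (V : Set G)).mul_mem h1
    (cent_conj (h.B_N i hb) ((centralizer (V : Set G)).inv_mem h1))
  have e : k * (b * k⁻¹ * b⁻¹) = k * b * k⁻¹ * b⁻¹ := by group
  rwa [e] at h2

theorem TwoAb.K_sq [Nonempty ι] {k : G} (hk : k ∈ centralizer (UU V B : Set G)) : k * k = 1 := by
  refine h.cent _ fun i b hb => ?_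
  have h1 := h.K_comm hk hb
  have h2 := (mem_centralizer_iff.1 hk) _ (B0_le_U i h1)
  have h3 := h.B_sq i _ h1.1
  set u := k * b * k⁻¹ * b⁻¹ with hu
  have h4 : k * b * k⁻¹ = u * b := by rw [hu]; group
  calc k * k * b = k * (k * b * k⁻¹) * k := by group
    _ = (k * u) * b * k := by rw [h4]; group
    _ = u * (k * b * k⁻¹) * (k * k) := by rw [← h2]; group
    _ = (u * u) * b * (k * k) := by rw [h4]; group
    _ = b * (k * k) := by rw [h3, one_mul]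

theorem TwoAb.K_mul_comm [Nonempty ι] {k l : G} (hk : k ∈ centralizer (UU V B : Set G))
    (hl : l ∈ centralizer (UU V B : Set G)) : k * l = l * k := by
  have h1 := h.K_sq (mul_mem hk hl)
  have h2 := h.K_sq hk
  have h3 := h.K_sq hl
  calc k * l = k * (k * l * (k * l)) * l := by rw [h1]; group
    _ = (k * k) * l * k * (l * l) := by group
    _ = l * k := by rw [h2, h3]; group

end cen

/-- abstract commutator calculation -/
theorem comm_aux {M : Type*} [Group M] {a t b k l : M} (hkl : k * l = l * k) (hkt : k * t = t * k)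
    (hkb : k * b = b * k) (hlt : l * t = t * l) (hlb : l * b = b * l) (h1 : a * t * a⁻¹ = k * t)
    (h2 : a * b * a⁻¹ = l * b) : a * (t * b * t⁻¹ * b⁻¹) * a⁻¹ = t * b * t⁻¹ * b⁻¹ := by
  have ckl : Commute k l := hkl
  have ckt : Commute k t := hkt
  have ckb : Commute k b := hkb
  have clt : Commute l t := hlt
  have clb : Commute l b := hlb
  have e : a * (t * b * t⁻¹ * b⁻¹) * a⁻¹ = (a * t * a⁻¹) * (a * b * a⁻¹) * (a * t * a⁻¹)⁻¹ * (a * b * a⁻¹)⁻¹ := by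
    group
  rw [e, h1, h2]
  have c1 : Commute k (t * b * t⁻¹ * b⁻¹) :=
    ((ckt.mul_right ckb).mul_right ckt.inv_right).mul_right ckb.inv_right
  have c2 : Commute l (t * b * t⁻¹ * b⁻¹) :=
    ((clt.mul_right clb).mul_right clt.inv_right).mul_right clb.inv_right
  calc k * t * (l * b) * (k * t)⁻¹ * (l * b)⁻¹
      = k * (t * l) * b * t⁻¹ * (k⁻¹ * b⁻¹) * l⁻¹ := by group
    _ = k * (l * t) * b * t⁻¹ * (b⁻¹ * k⁻¹) * l⁻¹ := by rw [← hlt, (ckb.inv_inv).eq]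
    _ = k * (l * (t * b * t⁻¹ * b⁻¹)) * k⁻¹ * l⁻¹ := by group
    _ = k * ((t * b * t⁻¹ * b⁻¹) * l) * k⁻¹ * l⁻¹ := by rw [c2.eq]
    _ = (k * (t * b * t⁻¹ * b⁻¹)) * l * k⁻¹ * l⁻¹ := by group
    _ = (t * b * t⁻¹ * b⁻¹) * (k * l) * k⁻¹ * l⁻¹ := by rw [c1.eq]; group
    _ = (t * b * t⁻¹ * b⁻¹) * (l * k) * k⁻¹ * l⁻¹ := by rw [hkl]
    _ = t * b * t⁻¹ * b⁻¹ := by group

end Cfsg.Agent.Omega.Abl
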